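import Mathlib.Algebra.Homology.HomotopyCategory.MappingCone
import Mathlib.Algebra.Homology.Linear
import Mathlib.CategoryTheory.Abelian.Basic

/-! Scalars null-homotopic on the cone of a scalar. -/

universe v u w

open CategoryTheory CategoryTheory.Limits CochainComplex CochainComplex.HomComplex

namespace Groth.Agent.DCEq

variable {A : Type u} [Category.{v} A] [Abelian A] {R : Type w} [CommRing R] [Linear R A]
variable {K : CochainComplex A ℤ} (s t : R)

lemma ofHom_smul {L : CochainComplex A ℤ} (f : K ⟶ L) :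
    Cochain.ofHom (t • f) = t • Cochain.ofHom f := by
  ext p
  simp

/-- A scalar is null-homotopic on the cone of multiplication by it. -/
theorem homotopy_cone_self : Nonempty (Homotopy (s • 𝟙 (mappingCone (s • 𝟙 K))) 0) := by
  let φ : K ⟶ K := s • 𝟙 K
  refine ⟨(Cochain.equivHomotopy (s • 𝟙 (mappingCone φ)) 0).symm
    ⟨(mappingCone.snd φ).comp (mappingCone.inl φ) (zero_add (-1)), ?_⟩⟩
  rw [δ_comp (mappingCone.snd φ) (mappingCone.inl φ) (zero_add (-1)) 1 0 0 (by lia) (by lia) (by lia),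
    mappingCone.δ_inl, mappingCone.δ_snd, Cochain.ofHom_comp, Cochain.ofHom_zero, add_zero,
    ofHom_smul s (𝟙 (mappingCone φ)), ← mappingCone.id φ, smul_add, add_comm]
  simp only [Int.negOnePow_neg, Int.negOnePow_one, Units.neg_smul, one_smul]
  rw [show Cochain.ofHom φ = s • Cochain.ofHom (𝟙 K) from ofHom_smul s _]
  simp

/-- A null-homotopic scalar stays null-homotopic on the cone of a scalar. -/
theorem homotopy_cone_of_homotopy (h : Nonempty (Homotopy (t • 𝟙 K) 0)) :
    Nonempty (Homotopy (t • 𝟙 (mappingCone (s • 𝟙 K))) 0) := by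
  obtain ⟨h⟩ := h
  obtain ⟨z, hz⟩ := Cochain.equivHomotopy _ _ h
  rw [Cochain.ofHom_zero, add_zero, ofHom_smul] at hz
  let φ : K ⟶ K := s • 𝟙 K
  let X := z.comp (mappingCone.inl φ) (show (-1 : ℤ) + -1 = -2 by lia)
  let Y := z.comp (Cochain.ofHom (mappingCone.inr φ)) (add_zero (-1))
  refine ⟨(Cochain.equivHomotopy (t • 𝟙 (mappingCone φ)) 0).symm
    ⟨(mappingCone.snd φ).comp Y (zero_add (-1)) -
      (mappingCone.fst φ).1.comp X (show (1 : ℤ) + -2 = -1 by lia), ?_⟩⟩
  have hY : δ (-1) 0 Y = t • Cochain.ofHom (mappingCone.inr φ) := by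
    rw [δ_comp_ofHom, ← hz, Cochain.smul_comp, Cochain.id_comp]
  have hX : δ (-2) (-1) X = s • Y - t • mappingCone.inl φ := by
    rw [δ_comp z (mappingCone.inl φ) (show (-1 : ℤ) + -1 = -2 by lia) 0 0 (-1) (by lia) (by lia) (by lia),
      mappingCone.δ_inl, ← hz, Cochain.smul_comp, Cochain.id_comp]
    simp only [Int.negOnePow_neg, Int.negOnePow_one, Units.neg_smul, one_smul, φ, Linear.smul_comp,
      Category.id_comp, ofHom_smul, Cochain.comp_smul]
    rw [sub_eq_add_neg]
  rw [δ_sub, Cochain.ofHom_zero, add_zero,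
    δ_comp (mappingCone.snd φ) Y (zero_add (-1)) 1 0 0 (by lia) (by lia) (by lia), hY, mappingCone.δ_snd,
    δ_comp (mappingCone.fst φ).1 X (show (1 : ℤ) + -2 = -1 by lia) 2 (-1) 0 (by lia) (by lia) (by lia), hX,
    ofHom_smul t (𝟙 (mappingCone φ)), ← mappingCone.id φ,
    show Cochain.ofHom φ = s • Cochain.ofHom (𝟙 K) from ofHom_smul s _]
  simp [Cocycle.δ_eq_zero, Int.negOnePow_even, Int.negOnePow_one, Cochain.comp_sub, Cochain.comp_smul, Cochain.smul_comp]
  abel

end Groth.Agent.DCEq
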