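import Groth.Agent.DCEq.Killed
import Groth.Agent.SiteBase.FlatMor
import Groth.Agent.ModPull.Criterion

/-! Extension of scalars along a flat map of sheaves of rings is exact. -/

universe u

open CategoryTheory CategoryTheory.Limits Opposite
open Groth.Agent.ModTensor Groth.Agent.ModPull

namespace Groth.Agent.DCEq

open Groth.Agent.H9Misc.DerCompRestr (res toRMor)

variable {C : Type u} [SmallCategory C] {J : GrothendieckTopology C} {O O' : Sheaf J CommRingCat.{u}}

/-- Relations with coefficients in `O` lift to `O'`. -/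
theorem relLift (φ : O ⟶ O') (hflat : ModSite.IsFlat ((res φ).obj (ModSite.unit O'))) :
    SiteBase.RelLift (toRMor φ) (ModSite.unit O') := by
  classical
  intro W V (h : W ⟶ V) σ Y _ _ c a hrel
  let a₁ : σ → ((fg O).obj ((res φ).obj (ModSite.unit O'))).obj (op W) := a
  have hrel' : ∀ y, ∑ l, (O.obj.map h.op).hom (c l y) • a₁ l = 0 := fun y => by
    refine Eq.trans (Finset.sum_congr rfl fun l _ => ?_) (hrel y)
    show (φ.hom.app (op W)).hom ((O.obj.map h.op).hom (c l y)) * (show O'.obj.obj (op W) from a l) =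
      (O'.obj.map h.op).hom ((φ.hom.app (op V)).hom (c l y)) * (show O'.obj.obj (op W) from a l)
    rw [show (φ.hom.app (op W)).hom ((O.obj.map h.op).hom (c l y)) =
      (O'.obj.map h.op).hom ((φ.hom.app (op V)).hom (c l y)) from CategoryTheory.congr_fun (φ.hom.naturality h.op) _]
  refine (exists_trivialisation (κ := Y) (Y := σ) hflat (fun y l => (O.obj.map h.op).hom (c l y)) a₁ hrel').mono
    fun W' g ⟨n, N, t, ht, hN⟩ => ⟨W', g ≫ h, 𝟙 W', n, fun l j => N j l, t, Category.id_comp _, fun l => ?_,
      fun j y => ?_⟩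
  · refine Eq.trans (ht l) (Finset.sum_congr rfl fun j _ => ?_)
    show (φ.hom.app (op W')).hom (N j l) * (show O'.obj.obj (op W') from t j) =
      (O'.obj.map (𝟙 W' : W' ⟶ W').op).hom ((φ.hom.app (op W')).hom (N j l)) * (show O'.obj.obj (op W') from t j)
    rw [op_id, CategoryTheory.Functor.map_id, CommRingCat.id_apply]
  · refine Eq.trans (Finset.sum_congr rfl fun l _ => ?_) (hN y j)
    rw [SiteBase.ringMap_comp, mul_comm]

/-- Extension of scalars is exact. -/
theorem preservesFiniteLimits_pull (φ : O ⟶ O') (hflat : ModSite.IsFlat ((res φ).obj (ModSite.unit O'))) :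
    PreservesFiniteLimits (pull φ) :=
  SiteBase.isFlat_of_relLift (toRMor φ) (relLift φ hflat)

theorem preservesFiniteColimits_pull (φ : O ⟶ O') : PreservesFiniteColimits (pull φ) := by
  have := (pullAdj φ).leftAdjoint_preservesColimits.{0, 0}
  exact ⟨fun _ => inferInstance⟩

theorem additive_pull (φ : O ⟶ O') : (pull φ).Additive :=
  (pullAdj φ).left_adjoint_additive

end Groth.Agent.DCEq
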