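import Groth.Agent.H9Misc.DerCompRestr
import Groth.Agent.ModTensor.Basic

/-! Modules killed by `I` do not see a ring map which is bijective modulo `I`. -/

universe u

open CategoryTheory CategoryTheory.Limits Opposite

namespace Groth.Agent.DCEq

open ModTensor
open Groth.Agent.H9Misc.DerCompRestr (res toRMor)

variable {C : Type u} [SmallCategory C] {J : GrothendieckTopology C} {O O' : Sheaf J CommRingCat.{u}}

/-- `M` is killed by `I`. -/
def Killed (I : DerComp.IdealSh O) (M : ModSite.Mod O) : Prop :=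
  ∀ (U : C) (a : O.obj.obj (op U)), a ∈ I.ideal U → ∀ x : ((fg O).obj M).obj (op U), a • x = 0

lemma Killed.of_iso {I : DerComp.IdealSh O} {M N : ModSite.Mod O} (e : M ≅ N) (h : Killed I M) : Killed I N := by
  intro U a ha x
  have hx : (((fg O).map e.hom).app (op U)).hom ((((fg O).map e.inv).app (op U)).hom x) = x :=
    congrArg (fun t : N ⟶ N => (((fg O).map t).app (op U)).hom x) e.inv_hom_id
  rw [← hx, ← map_smul, h U a ha, map_zero]

/-- The hypothesis `O/I = O'/IO'`. -/
structure ModIso (φ : O ⟶ O') (I : DerComp.IdealSh O) (I' : DerComp.IdealSh O') : Prop where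
  ext : DerComp.IsIdealExt φ I I'
  inj : ∀ (U : C) (f : O.obj.obj (op U)), (φ.hom.app (op U)).hom f ∈ I'.ideal U → f ∈ I.ideal U
  surj : ∀ (U : C) (f' : O'.obj.obj (op U)), ∃ S ∈ J U, ∀ ⦃V : C⦄ (g : V ⟶ U), S g → ∃ a : O.obj.obj (op V),
    (O'.obj.map g.op).hom f' - (φ.hom.app (op V)).hom a ∈ I'.ideal V

variable {φ : O ⟶ O'} {I : DerComp.IdealSh O} {I' : DerComp.IdealSh O'} {M : ModSite.Mod O}

/-- `a` represents `a'` modulo `I'`. -/
def Rep (φ : O ⟶ O') (I' : DerComp.IdealSh O') {U : C} (a' : O'.obj.obj (op U)) (a : O.obj.obj (op U)) : Prop :=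
  a' - (φ.hom.app (op U)).hom a ∈ I'.ideal U

lemma Rep.map {U V : C} (g : V ⟶ U) {a' : O'.obj.obj (op U)} {a : O.obj.obj (op U)} (h : Rep φ I' a' a) :
    Rep φ I' ((O'.obj.map g.op).hom a') ((O.obj.map g.op).hom a) := by
  show _ - (φ.hom.app (op V)).hom ((O.obj.map g.op).hom a) ∈ _
  rw [show (φ.hom.app (op V)).hom ((O.obj.map g.op).hom a) = (O'.obj.map g.op).hom ((φ.hom.app (op U)).hom a) from
    CategoryTheory.congr_fun (φ.hom.naturality g.op) a, ← map_sub]
  exact I'.map_mem g h

lemma Rep.self {U : C} (a : O.obj.obj (op U)) : Rep φ I' ((φ.hom.app (op U)).hom a) a := by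
  show _ - _ ∈ _
  rw [sub_self]
  exact Submodule.zero_mem _

lemma Rep.add {U : C} {a' b' : O'.obj.obj (op U)} {a b : O.obj.obj (op U)} (h : Rep φ I' a' a)
    (k : Rep φ I' b' b) : Rep φ I' (a' + b') (a + b) := by
  show _ - _ ∈ _
  rw [map_add, add_sub_add_comm]
  exact Submodule.add_mem _ h k

lemma Rep.mul {U : C} {a' b' : O'.obj.obj (op U)} {a b : O.obj.obj (op U)} (h : Rep φ I' a' a)
    (k : Rep φ I' b' b) : Rep φ I' (a' * b') (a * b) := by
  show _ - _ ∈ _
  rw [map_mul, show a' * b' - (φ.hom.app (op U)).hom a * (φ.hom.app (op U)).hom b =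
    (a' - (φ.hom.app (op U)).hom a) * b' + (φ.hom.app (op U)).hom a * (b' - (φ.hom.app (op U)).hom b) by ring]
  exact Submodule.add_mem _ (Ideal.mul_mem_right _ _ h) (Ideal.mul_mem_left _ _ k)

variable (hφ : ModIso φ I I') (hM : Killed I M)

include hφ hM in
lemma smul_eq_of_rep {U : C} {a' : O'.obj.obj (op U)} {a b : O.obj.obj (op U)} (h : Rep φ I' a' a)
    (k : Rep φ I' a' b) (x : ((fg O).obj M).obj (op U)) : a • x = b • x := by
  have hab : a - b ∈ I.ideal U := hφ.inj U _ (by
    rw [map_sub]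
    have := Submodule.sub_mem _ k h
    rwa [sub_sub_sub_cancel_left] at this)
  rw [← sub_eq_zero, ← sub_smul]
  exact hM U _ hab x

/-- `h` is the product of `a'` and `x`. -/
def IsSm (φ : O ⟶ O') (I' : DerComp.IdealSh O') {U : C} (a' : O'.obj.obj (op U))
    (x h : ((fg O).obj M).obj (op U)) : Prop :=
  ∀ ⦃V : C⦄ (g : V ⟶ U) (a : O.obj.obj (op V)), Rep φ I' ((O'.obj.map g.op).hom a') a →
    rs ((fg O).obj M) g.op h = a • rs ((fg O).obj M) g.op x

include hφ in
lemma ext_of_rep {U : C} (a' : O'.obj.obj (op U)) {y z : ((fg O).obj M).obj (op U)}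
    (h : ∀ ⦃V : C⦄ (g : V ⟶ U) (a : O.obj.obj (op V)), Rep φ I' ((O'.obj.map g.op).hom a') a →
      rs ((fg O).obj M) g.op y = rs ((fg O).obj M) g.op z) : y = z := by
  obtain ⟨S, hS, hl⟩ := hφ.surj U a'
  refine eq_of_locally (H := (fg O).obj M) M.isSheaf hS fun V g hg => ?_
  obtain ⟨a, ha⟩ := hl g hg
  exact h g a ha

include hφ hM in
lemma existsUnique_isSm {U : C} (a' : O'.obj.obj (op U)) (x : ((fg O).obj M).obj (op U)) :
    ∃! h, IsSm φ I' a' x h := by
  obtain ⟨S, hS, hl⟩ := hφ.surj U a'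
  have hsh := ((Presheaf.isSheaf_iff_isSheaf_forget J _ (CategoryTheory.forget Ab.{u})).1 M.isSheaf).isSheafFor
    _ hS
  choose al hal using hl
  let fam : Presieve.FamilyOfElements (((fg O).obj M).presheaf ⋙ CategoryTheory.forget Ab.{u}) S.arrows :=
    fun V g hg => al g hg • rs ((fg O).obj M) g.op x
  have key : ∀ ⦃V : C⦄ (g : V ⟶ U) (hg : S g) ⦃W : C⦄ (i : W ⟶ V) (a : O.obj.obj (op W)),
      Rep φ I' ((O'.obj.map (i ≫ g).op).hom a') a →
      rs ((fg O).obj M) i.op (al g hg • rs ((fg O).obj M) g.op x) = a • rs ((fg O).obj M) (i ≫ g).op x := by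
    intro V g hg W i a ha
    rw [rs_smul, op_comp, rs_comp]
    refine smul_eq_of_rep hφ hM (Rep.map i (hal g hg)) ?_ _
    rw [op_comp, Functor.map_comp, CommRingCat.comp_apply] at ha
    exact ha
  have hfam : fam.Compatible := by
    intro Y₁ Y₂ Z g₁ g₂ f₁ f₂ h₁ h₂ e
    show rs ((fg O).obj M) g₁.op (al f₁ h₁ • _) = rs ((fg O).obj M) g₂.op (al f₂ h₂ • _)
    have ha : Rep φ I' ((O'.obj.map (g₁ ≫ f₁).op).hom a') ((O.obj.map g₁.op).hom (al f₁ h₁)) := by
      rw [op_comp, Functor.map_comp, CommRingCat.comp_apply]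
      exact Rep.map g₁ (hal f₁ h₁)
    rw [key f₁ h₁ g₁ _ ha, key f₂ h₂ g₂ _ (e ▸ ha), e]
  refine ⟨hsh.amalgamate fam hfam, fun V g a ha => ?_, fun h' hh' => ?_⟩
  · refine eq_of_locally (H := (fg O).obj M) M.isSheaf (J.pullback_stable g hS) fun W i hi => ?_
    rw [← rs_comp, ← op_comp, rs_smul]
    refine (hsh.valid_glue hfam (i ≫ g) hi).trans ?_
    show al (i ≫ g) hi • rs ((fg O).obj M) (i ≫ g).op x = _
    rw [← rs_comp, ← op_comp]
    refine smul_eq_of_rep hφ hM (hal (i ≫ g) hi) ?_ _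
    rw [op_comp, Functor.map_comp, CommRingCat.comp_apply]
    exact Rep.map i ha
  · refine eq_of_locally (H := (fg O).obj M) M.isSheaf hS fun V g hg => ?_
    exact (hh' g _ (hal g hg)).trans (hsh.valid_glue hfam g hg).symm

/-- Scalar multiplication by sections of `O'`. -/
noncomputable def sm {U : C} (a' : O'.obj.obj (op U)) (x : ((fg O).obj M).obj (op U)) :
    ((fg O).obj M).obj (op U) :=
  (existsUnique_isSm hφ hM a' x).choose

lemma isSm_sm {U : C} (a' : O'.obj.obj (op U)) (x : ((fg O).obj M).obj (op U)) :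
    IsSm φ I' a' x (sm hφ hM a' x) :=
  (existsUnique_isSm hφ hM a' x).choose_spec.1

lemma sm_eq {U : C} {a' : O'.obj.obj (op U)} {x h : ((fg O).obj M).obj (op U)} (hh : IsSm φ I' a' x h) :
    sm hφ hM a' x = h :=
  ((existsUnique_isSm hφ hM a' x).choose_spec.2 h hh).symm

lemma sm_rs {U V : C} (g : V ⟶ U) (a' : O'.obj.obj (op U)) (x : ((fg O).obj M).obj (op U)) :
    rs ((fg O).obj M) g.op (sm hφ hM a' x) = sm hφ hM ((O'.obj.map g.op).hom a') (rs ((fg O).obj M) g.op x) := by
  refine (sm_eq hφ hM fun W i a ha => ?_).symm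
  rw [← rs_comp, ← rs_comp, ← op_comp]
  refine isSm_sm hφ hM a' x (i ≫ g) a ?_
  rw [op_comp, Functor.map_comp, CommRingCat.comp_apply]
  exact ha

lemma sm_hom {U : C} (a : O.obj.obj (op U)) (x : ((fg O).obj M).obj (op U)) :
    sm hφ hM ((φ.hom.app (op U)).hom a) x = a • x := by
  refine sm_eq hφ hM fun V g b hb => ?_
  rw [rs_smul]
  exact smul_eq_of_rep hφ hM (Rep.map g (Rep.self a)) hb _

/-- The module structure over `O'`. -/
@[instance_reducible]
noncomputable def module' (X : Cᵒᵖ) : Module (O'.obj.obj X) (((fg O).obj M).obj X) where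
  smul a' x := sm hφ hM (U := X.unop) a' x
  smul_add := fun a' x y => sm_eq hφ hM (U := X.unop) fun V g a ha => by
    refine ((rs_add g.op (sm hφ hM (U := X.unop) a' x) (sm hφ hM (U := X.unop) a' y)).trans
      (congrArg₂ (· + ·) (isSm_sm hφ hM (U := X.unop) a' x g a ha) (isSm_sm hφ hM (U := X.unop) a' y g a ha))).trans ?_
    rw [rs_add, smul_add]
  add_smul := fun a' b' x => by
    refine ext_of_rep hφ (U := X.unop) a' fun V g a ha => ext_of_rep hφ ((O'.obj.map g.op).hom b') fun W i b hb => ?_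
    have hai := Rep.map i ha
    rw [← rs_comp, ← rs_comp, ← op_comp]
    rw [← CommRingCat.comp_apply, ← Functor.map_comp, ← op_comp] at hai hb
    refine (isSm_sm hφ hM (U := X.unop) (a' + b') x (i ≫ g) _ (by rw [map_add]; exact hai.add hb)).trans (Eq.symm ?_)
    refine (rs_add (i ≫ g).op (sm hφ hM (U := X.unop) a' x) (sm hφ hM (U := X.unop) b' x)).trans ?_
    rw [isSm_sm hφ hM (U := X.unop) a' x (i ≫ g) _ hai, isSm_sm hφ hM (U := X.unop) b' x (i ≫ g) _ hb, add_smul]
  mul_smul := fun a' b' x => by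
    refine ext_of_rep hφ (U := X.unop) a' fun V g a ha => ext_of_rep hφ ((O'.obj.map g.op).hom b') fun W i b hb => ?_
    have hai := Rep.map i ha
    rw [← rs_comp, ← rs_comp, ← op_comp]
    rw [← CommRingCat.comp_apply, ← Functor.map_comp, ← op_comp] at hai hb
    refine (isSm_sm hφ hM (U := X.unop) (a' * b') x (i ≫ g) _ (by rw [map_mul]; exact hai.mul hb)).trans (Eq.symm ?_)
    refine (isSm_sm hφ hM (U := X.unop) a' (sm hφ hM (U := X.unop) b' x) (i ≫ g) _ hai).trans ?_
    rw [isSm_sm hφ hM (U := X.unop) b' x (i ≫ g) _ hb, mul_smul]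
  one_smul := fun x => (congrArg (fun t => sm hφ hM (U := X.unop) t x) (map_one (φ.hom.app X).hom).symm).trans
      ((sm_hom hφ hM (U := X.unop) 1 x).trans (one_smul _ _))
  smul_zero a' := sm_eq hφ hM (U := X.unop) fun V g a _ => by
    rw [show rs ((fg O).obj M) g.op (0 : ((fg O).obj M).obj X) = 0 from map_zero _, smul_zero]
  zero_smul x := (congrArg (fun t => sm hφ hM (U := X.unop) t x) (map_zero (φ.hom.app X).hom).symm).trans
    ((sm_hom hφ hM (U := X.unop) 0 x).trans (zero_smul _ _))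

/-- `M` as a module over `O'`. -/
noncomputable def extMod : ModSite.Mod O' :=
  letI : ∀ X : Cᵒᵖ, Module ((ModSite.ringSh O').obj.obj X) (((fg O).obj M).presheaf.obj X) := module' hφ hM
  { val := PresheafOfModules.ofPresheaf ((fg O).obj M).presheaf
      fun _ Y g r m => sm_rs hφ hM (V := Y.unop) g.unop r m
    isSheaf := M.isSheaf }

/-- `M` is the restriction of `extMod`. -/
noncomputable def extModIso : M ≅ (res φ).obj (extMod hφ hM) where
  hom := ⟨PresheafOfModules.homMk (M₁ := M.val) (M₂ := ((res φ).obj (extMod hφ hM)).val) (𝟙 _)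
    fun X a x => (sm_hom hφ hM (U := X.unop) a x).symm⟩
  inv := ⟨PresheafOfModules.homMk (M₁ := ((res φ).obj (extMod hφ hM)).val) (M₂ := M.val) (𝟙 _)
    fun X a x => sm_hom hφ hM (U := X.unop) a x⟩
  hom_inv_id := by ext; rfl
  inv_hom_id := by ext; rfl

/-- Extension of scalars. -/
noncomputable abbrev pull (φ : O ⟶ O') : ModSite.Mod O ⥤ ModSite.Mod O' := (toRMor φ).pull

/-- It is left adjoint to restriction. -/
noncomputable def pullAdj (φ : O ⟶ O') : pull φ ⊣ res φ := (toRMor φ).adj

/-- The annihilator of the image of the unit. -/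
noncomputable def annUnit (φ : O ⟶ O') (M : ModSite.Mod O) : DerComp.IdealSh O' where
  ideal U :=
    { carrier := {a' | ∀ ⦃V : C⦄ (g : V ⟶ U) (y : ((fg O).obj M).obj (op V)),
        (O'.obj.map g.op).hom a' •
          (show ((fg O').obj ((pull φ).obj M)).obj (op V) from (((pullAdj φ).unit.app M).val.app (op V)).hom y) = 0}
      add_mem' := fun {a b} ha hb V g y => by rw [map_add, add_smul, ha g y, hb g y, add_zero]
      zero_mem' := fun V g y => by rw [map_zero, zero_smul]
      smul_mem' := fun c a ha V g y => by rw [smul_eq_mul, map_mul, mul_smul, ha g y, smul_zero] }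
  map_mem {U V} g f hf W h y := by
    rw [← CommRingCat.comp_apply, ← Functor.map_comp, ← op_comp]
    exact hf (h ≫ g) y
  glue {U f} S hS h V g y := by
    refine eq_of_locally (H := (fg O').obj ((pull φ).obj M)) ((pull φ).obj M).isSheaf (J.pullback_stable g hS) fun W i hi => ?_
    rw [rs_smul, ← CommRingCat.comp_apply, ← Functor.map_comp, ← op_comp,
      show rs ((fg O').obj ((pull φ).obj M)) i.op
          (show ((fg O').obj ((pull φ).obj M)).obj (op V) from (((pullAdj φ).unit.app M).val.app (op V)).hom y) =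
        (((pullAdj φ).unit.app M).val.app (op W)).hom (rs ((fg O).obj M) i.op y) from
        (app_rs ((fg O).map ((pullAdj φ).unit.app M)) i.op y).symm]
    refine Eq.trans ?_ (map_zero (((fg O').obj ((pull φ).obj M)).map i.op).hom).symm
    have := h (i ≫ g) hi (𝟙 W) (rs ((fg O).obj M) i.op y)
    rwa [op_id, CategoryTheory.Functor.map_id, CommRingCat.id_apply] at this

include hφ hM in
lemma annUnit_le {U : C} {i' : O'.obj.obj (op U)} (hi : i' ∈ I'.ideal U) : i' ∈ (annUnit φ M).ideal U := by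
  refine hφ.ext.2 (annUnit φ M) (fun V a ha W g y => ?_) U hi
  rw [show (O'.obj.map g.op).hom ((φ.hom.app (op V)).hom a) = (φ.hom.app (op W)).hom ((O.obj.map g.op).hom a) from
    (CategoryTheory.congr_fun (φ.hom.naturality g.op) a).symm]
  refine Eq.trans ((((pullAdj φ).unit.app M).val.app (op W)).hom.map_smul ((O.obj.map g.op).hom a) y).symm ?_
  exact (congrArg (((pullAdj φ).unit.app M).val.app (op W)).hom (hM W _ (I.map_mem g ha) y)).trans (map_zero _)

/-- The unit, linear over `O'`. -/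
noncomputable def extUnitHom : extMod hφ hM ⟶ (pull φ).obj M :=
  ⟨PresheafOfModules.homMk (M₁ := (extMod hφ hM).val) (M₂ := ((pull φ).obj M).val)
    ((PresheafOfModules.toPresheaf (ModSite.ringSh O).obj).map ((pullAdj φ).unit.app M).val) fun X r x => by
      let N := (fg O').obj ((pull φ).obj M)
      let η := (fg O).map ((pullAdj φ).unit.app M)
      show (show N.obj X from η.app X (sm hφ hM (U := X.unop) r x)) =
        (show O'.obj.obj X from r) • (show N.obj X from η.app X x)
      obtain ⟨S, hS, hl⟩ := hφ.surj X.unop r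
      refine eq_of_locally (H := (fg O').obj ((pull φ).obj M)) ((pull φ).obj M).isSheaf (U := X.unop) hS fun V g hg => ?_
      obtain ⟨a, ha⟩ := hl g hg
      rw [rs_smul]
      refine (app_rs η g.op _).symm.trans ?_
      refine (congrArg (η.app (op V)) (isSm_sm hφ hM (U := X.unop) r x g a ha)).trans ?_
      refine ((η.app (op V)).hom.map_smul a _).trans ?_
      refine Eq.trans ?_ (congrArg (fun t => (O'.obj.map g.op).hom r • t) (app_rs η g.op x))
      show (φ.hom.app (op V)).hom a • (show N.obj (op V) from η.app (op V) (rs ((fg O).obj M) g.op x)) = _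
      have := annUnit_le hφ hM ha (𝟙 V) (rs ((fg O).obj M) g.op x)
      rw [op_id, CategoryTheory.Functor.map_id, CommRingCat.id_apply, sub_smul] at this
      exact (sub_eq_zero.1 this).symm⟩

include hφ hM in
/-- The unit is invertible on modules killed by `I`. -/
theorem isIso_unit : IsIso ((pullAdj φ).unit.app M) := by
  let η := (pullAdj φ).unit.app M
  let e := extModIso hφ hM
  let f : (pull φ).obj M ⟶ extMod hφ hM := ((pullAdj φ).homEquiv _ _).symm e.hom
  let g := extUnitHom hφ hM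
  have hf : η ≫ (res φ).map f = e.hom :=
    ((pullAdj φ).homEquiv_unit ..).symm.trans (((pullAdj φ).homEquiv _ _).apply_symm_apply _)
  have hg : (res φ).map g = e.inv ≫ η :=
    SheafOfModules.hom_ext (PresheafOfModules.hom_ext fun X => ModuleCat.hom_ext (LinearMap.ext fun x => rfl))
  have hfg : f ≫ g = 𝟙 _ := by
    refine ((pullAdj φ).homEquiv _ _).injective ?_
    rw [Adjunction.homEquiv_unit, Adjunction.homEquiv_unit, Functor.map_comp, ← Category.assoc, hf, hg,
      e.hom_inv_id_assoc, CategoryTheory.Functor.map_id]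
    exact (Category.comp_id _).symm
  have hgf : (res φ).map g ≫ (res φ).map f = 𝟙 _ := by rw [hg, Category.assoc, hf, e.inv_hom_id]
  have : IsIso ((res φ).map f) :=
    ⟨(res φ).map g, by rw [← Functor.map_comp, hfg, CategoryTheory.Functor.map_id], hgf⟩
  exact IsIso.of_isIso_fac_right hf

end Groth.Agent.DCEq
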