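import Groth.Agent.DCEq.Flat
import Groth.Agent.H9Misc.TelLocal

/-! The derived unit of extension of scalars on objects with cohomology killed by `I`. -/

universe u

open CategoryTheory CategoryTheory.Category CategoryTheory.Limits Opposite
open Groth.Agent.H9Misc

attribute [local instance] HasDerivedCategory.standard

namespace Groth.Agent.DCEq

open Groth.Agent.H9Misc.DerCompRestr (res)

variable {C : Type u} [SmallCategory C] {J : GrothendieckTopology C} {O O' : Sheaf J CommRingCat.{u}}

/-- All cohomology sheaves are killed by `I`. -/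
def HKilled (I : DerComp.IdealSh O) (X : DerivedCategory (ModSite.Mod O)) : Prop :=
  ∀ n : ℤ, Killed I ((DerivedCategory.homologyFunctor (ModSite.Mod O) n).obj X)

lemma HKilled.of_iso {I : DerComp.IdealSh O} {X Y : DerivedCategory (ModSite.Mod O)} (e : X ≅ Y)
    (h : HKilled I X) : HKilled I Y :=
  fun n => (h n).of_iso ((DerivedCategory.homologyFunctor (ModSite.Mod O) n).mapIso e)

lemma HKilled.shift {I : DerComp.IdealSh O} {X : DerivedCategory (ModSite.Mod O)} (h : HKilled I X) (a : ℤ) :
    HKilled I (X⟦a⟧) :=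
  fun n => (h (a + n)).of_iso
    (((DerivedCategory.homologyFunctor (ModSite.Mod O) 0).shiftIso a n (a + n) rfl).app X).symm

variable (φ : O ⟶ O') [(res φ).Additive] [PreservesFiniteLimits (res φ)] [PreservesFiniteColimits (res φ)]
  [(pull φ).Additive] [PreservesFiniteLimits (pull φ)] [PreservesFiniteColimits (pull φ)]

/-- The derived adjunction. -/
noncomputable def derAdj : (pull φ).mapDerivedCategory ⊣ (res φ).mapDerivedCategory :=
  TelLocal.derivedAdjunction (pullAdj φ)

/-- The unit on a complex. -/
noncomputable def unitCx (K : CochainComplex (ModSite.Mod O) ℤ) :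
    K ⟶ ((res φ).mapHomologicalComplex (ComplexShape.up ℤ)).obj
      (((pull φ).mapHomologicalComplex (ComplexShape.up ℤ)).obj K) where
  f i := (pullAdj φ).unit.app (K.X i)
  comm' i j _ := ((pullAdj φ).unit.naturality (K.d i j)).symm

variable {φ} {I : DerComp.IdealSh O} {I' : DerComp.IdealSh O'} (hφ : ModIso φ I I')

include hφ in
lemma quasiIso_unitCx (K : CochainComplex (ModSite.Mod O) ℤ) (h : ∀ n, Killed I (K.homology n)) :
    QuasiIso (unitCx φ K) := by
  refine ⟨fun n => ?_⟩
  rw [quasiIsoAt_iff_isIso_homologyMap]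
  have hu := isIso_unit hφ (h n)
  let G := pull φ ⋙ res φ
  let τ : 𝟭 (ModSite.Mod O) ⟶ G := (pullAdj φ).unit
  have : G.PreservesHomology := Functor.preservesHomologyOfExact G
  have : IsIso (τ.app (K.sc n).homology) := hu
  show IsIso (ShortComplex.homologyMap ((K.sc n).mapNatTrans τ))
  rw [ShortComplex.homologyMap_mapNatTrans]
  infer_instance

include hφ in
/-- The derived unit is invertible on objects with killed cohomology. -/
theorem isIso_derUnit (X : DerivedCategory (ModSite.Mod O)) (hX : HKilled I X) :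
    IsIso ((derAdj φ).unit.app X) := by
  have := Localization.essSurj (DerivedCategory.Qh (C := ModSite.Mod O))
    (HomotopyCategory.quasiIso (ModSite.Mod O) (ComplexShape.up ℤ))
  obtain ⟨⟨K⟩, ⟨e⟩⟩ : ∃ K, Nonempty (DerivedCategory.Qh.obj K ≅ X) :=
    ⟨_, ⟨DerivedCategory.Qh.objObjPreimageIso X⟩⟩
  suffices h : IsIso ((derAdj φ).unit.app (DerivedCategory.Qh.obj ⟨K⟩)) from
    (NatTrans.isIso_app_iff_of_iso (derAdj φ).unit e).1 h
  have hK : ∀ n, Killed I (K.homology n) := fun n =>
    ((hX.of_iso (((DerivedCategory.quotientCompQhIso (ModSite.Mod O)).app K).symm ≪≫ e).symm) n).of_iso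
      ((DerivedCategory.homologyFunctorFactors (ModSite.Mod O) n).app K)
  have := quasiIso_unitCx hφ K hK
  have : IsIso (DerivedCategory.Qh.map ((SerreDerived.adjHtpy (ComplexShape.up ℤ) (pullAdj φ)).unit.app ⟨K⟩)) := by
    show IsIso ((HomotopyCategory.quotient (ModSite.Mod O) (ComplexShape.up ℤ) ⋙ DerivedCategory.Qh).map (unitCx φ K))
    refine (NatIso.isIso_map_iff (DerivedCategory.quotientCompQhIso (ModSite.Mod O)) _).2 ?_
    exact (DerivedCategory.isIso_Q_map_iff_quasiIso (φ := _)).2 inferInstance
  rw [derAdj, TelLocal.derivedAdjunction, Adjunction.localization_unit_app]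
  infer_instance

end Groth.Agent.DCEq
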