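import Groth.Agent.DCEq.Tel
import Groth.Agent.DCEq.Unit
import Groth.Agent.DCEq.Cone
import Mathlib.Algebra.Homology.ShortComplex.Linear

/-! Derived complete objects orthogonal to objects with killed cohomology vanish. -/

universe u

open CategoryTheory CategoryTheory.Category CategoryTheory.Limits Opposite CategoryTheory.Pretriangulated
open Groth.Agent.H9Misc

attribute [local instance] HasDerivedCategory.standard

namespace Groth.Agent.DCEq

variable {C : Type u} [SmallCategory C] {J : GrothendieckTopology C} {O : Sheaf J CommRingCat.{u}}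

/-- Derived completeness passes to the third object of a triangle. -/
lemma isDerComp_obj₃ (I : DerComp.IdealSh O) (T : Triangle (DerivedCategory (ModSite.Mod O)))
    (hT : T ∈ distTriang _) (h₁ : DerComp.IsDerComp O I T.obj₁) (h₂ : DerComp.IsDerComp O I T.obj₂) :
    DerComp.IsDerComp O I T.obj₃ := by
  intro U f hf n
  let D := DerivedCategory (ModSite.Mod O)
  refine subsingleton_of_forall_eq 0 fun x => ?_
  let T' := (Triangle.shiftFunctor D n).obj T
  have hT' : T' ∈ distTriang D := Triangle.shift_distinguished T hT n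
  let a : T.obj₁⟦(n + 1)⟧ ≅ T'.obj₁⟦(1 : ℤ)⟧ := (shiftFunctorAdd' D n 1 (n + 1) rfl).app T.obj₁
  have := (h₁ U f hf (n + 1))
  have : Subsingleton (SiteCmp.inD O ((ModSite.extZero O U).obj (DerComp.awayOver O U f)) ⟶ T'.obj₁⟦(1 : ℤ)⟧) :=
    a.homToEquiv.symm.subsingleton
  obtain ⟨y, rfl⟩ := Triangle.coyoneda_exact₃ T' hT' x (Subsingleton.elim _ _)
  have := h₂ U f hf n
  exact (congrArg (fun t => t ≫ T'.mor₂) (Subsingleton.elim (α := _ ⟶ T.obj₂⟦n⟧) y 0)).trans zero_comp

section Slice

variable (I : DerComp.IdealSh O) (W : C)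

/-- The ideal of sections killing a module. -/
noncomputable def annMod (H : ModSite.Mod O) : DerComp.IdealSh O where
  ideal U :=
    { carrier := {a | ∀ ⦃V : C⦄ (g : V ⟶ U) (x : ((ModTensor.fg O).obj H).obj (op V)),
        (O.obj.map g.op).hom a • x = 0}
      add_mem' := fun {a b} ha hb V g x => by rw [map_add, add_smul, ha g x, hb g x, add_zero]
      zero_mem' := fun V g x => by rw [map_zero, zero_smul]
      smul_mem' := fun c a ha V g x => by rw [smul_eq_mul, map_mul, mul_smul, ha g x, smul_zero] }
  map_mem {U V} g f hf X h x := by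
    rw [← CommRingCat.comp_apply, ← Functor.map_comp, ← op_comp]
    exact hf (h ≫ g) x
  glue {U f} S hS h V g x := by
    refine ModTensor.eq_of_locally H.isSheaf (H := (ModTensor.fg O).obj H) (J.pullback_stable g hS) fun X i hi => ?_
    rw [ModTensor.rs_smul, ← CommRingCat.comp_apply, ← Functor.map_comp, ← op_comp]
    refine Eq.trans ?_ (map_zero (((ModTensor.fg O).obj H).map i.op).hom).symm
    have := h (i ≫ g) hi (𝟙 X) (ModTensor.rs ((ModTensor.fg O).obj H) i.op x)
    rwa [op_id, CategoryTheory.Functor.map_id, CommRingCat.id_apply] at this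

/-- A module annihilated by generators is killed by the ideal. -/
lemma killed_of_gen {ι : Type*} {s : ι → DerComp.GSec O} (hs : I.IsGenBy s) (H : ModSite.Mod O)
    (h : ∀ i, s i • 𝟙 H = 0) : Killed I H := by
  intro U a ha x
  have hle : I ≤ annMod H := hs.2 _ fun i U V g x => by
    rw [DerComp.GSec.compat (s i) g]
    exact congrArg (fun t : H ⟶ H => (t.val.app (op V)).hom x) (h i)
  have := hle U ha (𝟙 U) x
  rwa [op_id, CategoryTheory.Functor.map_id, CommRingCat.id_apply] at this

/-- Null-homotopic scalars kill cohomology. -/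
lemma smul_homology_eq_zero (K : CochainComplex (ModSite.Mod O) ℤ) (s : DerComp.GSec O)
    (h : Nonempty (Homotopy (s • 𝟙 K) 0)) (n : ℤ) : s • 𝟙 (K.homology n) = 0 := by
  obtain ⟨h⟩ := h
  rw [← HomologicalComplex.homologyMap_id K n,
    ← (show HomologicalComplex.homologyMap (s • 𝟙 K) n = s • HomologicalComplex.homologyMap (𝟙 K) n from
      ShortComplex.homologyMap_smul ((HomologicalComplex.shortComplexFunctor _ _ n).map (𝟙 K)) s), h.homologyMap_eq n,
    HomologicalComplex.homologyMap_zero]

theorem subsingleton_freeOn {r : ℕ} (a : Fin r → O.obj.obj (op W))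
    (ha : (I.over W).IsGenBy fun i => DerComp.GSec.ofSect O W (a i))
    (Z : DerivedCategory (ModSite.Mod O)) (hZ : DerComp.IsDerComp O I Z)
    (hkill : ∀ X, HKilled I X → Subsingleton (X ⟶ Z)) (n : ℤ) :
    Subsingleton ((DerivedCategory.singleFunctor (ModSite.Mod O) 0).obj (ModSite.freeOn O W) ⟶ Z⟦n⟧) := by
  have := ModTensor.preservesFiniteColimits_extZero O W
  have := ModTensor.preservesFiniteLimits_extZero O W
  have := SuppCore.preservesFiniteColimits_restr (O := O) W
  have := preservesFiniteLimits_restr O W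
  have : (ModSite.restr O W).Additive := (ModSite.extZeroAdj O W).right_adjoint_additive
  let B := ModSite.Mod (O.over W)
  let G := ModSite.extZero O W
  let adj := TelLocal.derivedAdjunction (ModSite.extZeroAdj O W)
  let Zw := (ModSite.restr O W).mapDerivedCategory.obj Z
  let s := fun i => DerComp.GSec.ofSect O W (a i)
  have htransfer : ∀ (Y : DerivedCategory B) (n : ℤ),
      Subsingleton (Y ⟶ Zw⟦n⟧) ↔ Subsingleton (G.mapDerivedCategory.obj Y ⟶ Z⟦n⟧) := fun Y n => by
    let e := (adj.homEquiv Y (Z⟦n⟧)).trans
      (((ModSite.restr O W).mapDerivedCategory.commShiftIso n).app Z).homToEquiv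
    exact ⟨fun h => @Equiv.subsingleton _ _ e h, fun h => @Equiv.subsingleton _ _ e.symm h⟩
  suffices key : ∀ (l : List (Fin r)) (K : CochainComplex B ℤ),
      (∀ i, i ∈ l ∨ Nonempty (Homotopy (s i • 𝟙 K) 0)) → ∀ n : ℤ, Subsingleton (DerivedCategory.Q.obj K ⟶ Zw⟦n⟧) by
    let K₀ := (CochainComplex.singleFunctor B 0).obj (ModSite.unit (O.over W))
    have h0 := key (List.finRange r) K₀ (fun i => Or.inl (List.mem_finRange i)) n
    have h1 := (htransfer _ n).1 h0
    let e : G.mapDerivedCategory.obj (DerivedCategory.Q.obj K₀) ≅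
        (DerivedCategory.singleFunctor (ModSite.Mod O) 0).obj (ModSite.freeOn O W) :=
      G.mapDerivedCategory.mapIso ((DerivedCategory.singleFunctorIsoCompQ B 0).app _).symm ≪≫
        (G.mapDerivedCategorySingleFunctor 0).app _
    exact e.symm.homFromEquiv.subsingleton
  intro l
  induction l with
  | nil =>
    intro K hK n
    have hK' : ∀ i, Nonempty (Homotopy (s i • 𝟙 K) 0) := fun i => (hK i).resolve_left (List.not_mem_nil)
    have hH : ∀ q, Killed (I.over W) (K.homology q) := fun q =>
      killed_of_gen _ ha _ fun i => smul_homology_eq_zero K (s i) (hK' i) q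
    have hX : HKilled I (G.mapDerivedCategory.obj (DerivedCategory.Q.obj K)) := by
      have : G.PreservesHomology := Functor.preservesHomologyOfExact G
      refine HKilled.of_iso (G.mapDerivedCategoryFactors.app K).symm fun q => ?_
      exact (killed_extZero O W I _ (hH q)).of_iso
        ((((DerivedCategory.homologyFunctorFactors (ModSite.Mod O) q).app
          ((G.mapHomologicalComplex (ComplexShape.up ℤ)).obj K)) ≪≫ (K.sc q).mapHomologyIso G).symm)
    refine (htransfer _ n).2 ⟨fun f g => ?_⟩
    apply (shiftFunctor (DerivedCategory (ModSite.Mod O)) (-n)).map_injective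
    rw [← cancel_mono ((shiftFunctorCompIsoId (DerivedCategory (ModSite.Mod O)) n (-n) (by omega)).app Z).hom]
    exact (hkill _ (hX.shift (-n))).elim _ _
  | cons i l ih =>
    intro K hK
    let T := DerivedCategory.Q.mapTriangle.obj (CochainComplex.mappingCone.triangle (s i • 𝟙 K))
    have hT : T ∈ distTriang _ := DerivedCategory.mappingCone_triangle_distinguished _
    have hcone : ∀ j, j ∈ l ∨
        Nonempty (Homotopy (s j • 𝟙 (CochainComplex.mappingCone (s i • 𝟙 K))) 0) := fun j => by
      rcases hK j with hj | hj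
      · rcases List.mem_cons.1 hj with rfl | hj
        · exact Or.inr (homotopy_cone_self _)
        · exact Or.inl hj
      · exact Or.inr (homotopy_cone_of_homotopy _ _ hj)
    have hbij := (TelOrth.forall_subsingleton_iff T hT Zw).1 (ih _ hcone)
    intro n
    have hai : a i ∈ I.ideal W := by
      have := ha.1 i (Over.mk (𝟙 W))
      change (O.obj.map (𝟙 W).op).hom (a i) ∈ I.ideal W at this
      rwa [op_id, CategoryTheory.Functor.map_id, CommRingCat.id_apply] at this
    have hTB : TelBij.TB (TelLocal.sc (s i) (DerivedCategory.Q.obj K) (Zw⟦n⟧)) :=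
      TelLocal.tb_sc_of_iso (s i)
        ((shiftFunctorCompIsoId (DerivedCategory B) (-n) n (by omega)).app _) (Iso.refl _)
        (TelLocal.tb_sc_shift (s i) n (tb_slice I Z hZ W (a i) hai _))
    have hb : Function.Bijective fun x : DerivedCategory.Q.obj K ⟶ Zw⟦n⟧ => s i • x := by
      have e : (fun x : DerivedCategory.Q.obj K ⟶ Zw⟦n⟧ => s i • x) =
          fun x => DerivedCategory.Q.map (s i • 𝟙 K) ≫ x := funext fun x => by
        rw [Functor.map_smul, CategoryTheory.Functor.map_id, Linear.smul_comp, id_comp]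
      rw [e]
      exact hbij n
    let b := Equiv.ofBijective _ hb
    refine subsingleton_of_forall_eq 0 fun x => ?_
    exact TelBij.TB.eq_zero hTB (fun k => b.symm^[k] x) (fun k => by
      show b.symm^[k] x = b (b.symm^[k + 1] x)
      rw [Function.iterate_succ_apply', Equiv.apply_symm_apply]) 0

end Slice

end Groth.Agent.DCEq
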