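import Groth.Agent.DCEq.Koszul
import Groth.Agent.H9Misc.ExactLeftAdj
import Groth.Agent.S13489
import Groth.Agent.SiteBase.ModColim

/-! The derived complete categories of `(O, I)` and `(O', IO')` agree. -/

universe u

open CategoryTheory CategoryTheory.Category CategoryTheory.Limits Opposite CategoryTheory.Pretriangulated
open Groth.Agent.H9Misc

attribute [local instance] HasDerivedCategory.standard

namespace Groth.Agent.DCEq

open Groth.Agent.H9Misc.DerCompRestr (res)

variable {C : Type u} [SmallCategory C] {J : GrothendieckTopology C} {O O' : Sheaf J CommRingCat.{u}}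
  (φ : O ⟶ O') {I : DerComp.IdealSh O} {I' : DerComp.IdealSh O'}

/-- Restriction of scalars has a right adjoint. -/
theorem isLeftAdjoint_res : (res φ).IsLeftAdjoint := by
  have : PreservesColimitsOfSize.{u, u} (res φ) :=
    SiteBase.preservesColimitsOfSize_restrictScalars ((sheafCompose J (forget₂ CommRingCat.{u} RingCat.{u})).map φ)
  have : WellPowered.{u} (ModSite.Mod O')ᵒᵖ := CategoryTheory.Abelian.wellPowered_opposite
  exact isLeftAdjoint_of_preservesColimits_of_isSeparating (isSeparator_separator (ModSite.Mod O')) _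

variable [(res φ).Additive] [PreservesFiniteLimits (res φ)] [PreservesFiniteColimits (res φ)]

/-- Derived restriction of scalars reflects isomorphisms. -/
theorem isIso_of_isIso_res {X Y : DerivedCategory (ModSite.Mod O')} (f : X ⟶ Y)
    (h : IsIso ((res φ).mapDerivedCategory.map f)) : IsIso f := by
  obtain ⟨Z, g₂, g₃, hT⟩ := distinguished_cocone_triangle f
  refine (Triangle.isZero₃_iff_isIso₁ _ hT).1 ?_
  have hT' := (res φ).mapDerivedCategory.map_distinguished _ hT
  have hz := (SerreDerived.isZero_mapDerived_iff (res φ) Z).1 ((Triangle.isZero₃_iff_isIso₁ _ hT').2 h)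
  have := Localization.essSurj (DerivedCategory.Q (C := ModSite.Mod O'))
    (HomologicalComplex.quasiIso (ModSite.Mod O') (ComplexShape.up ℤ))
  obtain ⟨K, ⟨e⟩⟩ : ∃ K, Nonempty (DerivedCategory.Q.obj K ≅ Z) := ⟨_, ⟨DerivedCategory.Q.objObjPreimageIso Z⟩⟩
  refine ((FinDimDerived.isZero_Q_obj_iff K).2 fun n => ?_).of_iso e.symm
  rw [HomologicalComplex.exactAt_iff_isZero_homology]
  have hn : IsZero ((res φ).obj (K.homology n)) :=
    (hz n).of_iso ((res φ).mapIso (((DerivedCategory.homologyFunctorFactors (ModSite.Mod O') n).app K).symm ≪≫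
      (DerivedCategory.homologyFunctor (ModSite.Mod O') n).mapIso e))
  refine (IsZero.iff_id_eq_zero _).2 ((SheafOfModules.toSheaf (ModSite.ringSh O')).map_injective ?_)
  exact (Functor.map_isZero (SheafOfModules.toSheaf (ModSite.ringSh O)) hn).eq_of_src _ _

/-- The main theorem. -/
theorem main (hφ : ModIso φ I I') (hI : I.IsFiniteType)
    (hflat : ModSite.IsFlat ((res φ).obj (ModSite.unit O'))) :
    (∀ K' L' : DerivedCategory (ModSite.Mod O'), DerComp.IsDerComp O' I' K' → DerComp.IsDerComp O' I' L' →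
      Function.Bijective (fun ψ : K' ⟶ L' => (res φ).mapDerivedCategory.map ψ)) ∧
    (∀ E : DerivedCategory (ModSite.Mod O), DerComp.IsDerComp O I E → ∃ K' : DerivedCategory (ModSite.Mod O'),
      DerComp.IsDerComp O' I' K' ∧ Nonempty ((res φ).mapDerivedCategory.obj K' ≅ E)) := by
  have := preservesFiniteLimits_pull φ hflat
  have := preservesFiniteColimits_pull φ
  have := additive_pull φ
  have := isLeftAdjoint_res φ
  let adjc := Adjunction.ofIsLeftAdjoint (res φ)
  have : (res φ).rightAdjoint.Additive := adjc.right_adjoint_additive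
  obtain ⟨R, a₂, hR⟩ := ExactLeftAdj.exists_rightAdjoint adjc
  let F := (res φ).mapDerivedCategory
  let a₁ := derAdj φ
  -- the coinduced object is derived complete
  have hres : ∀ L, DerComp.IsDerComp O I L → DerComp.IsDerComp O I (F.obj (R.obj L)) := fun L hL =>
    (DerCompTel.isDerComp_iff I _).2 fun V a ha => (DerCompRestr.tbOn_res_iff φ (R.obj L) V a).1
      ((hR _ _ L).1 (tbOn_res_free φ I L hL V a ha))
  -- the counit is invertible on derived complete objects
  have hε : ∀ L, DerComp.IsDerComp O I L → IsIso (a₂.counit.app L) := fun L hL => by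
    obtain ⟨Z, g₂, g₃, hT⟩ := distinguished_cocone_triangle (a₂.counit.app L)
    refine (Triangle.isZero₃_iff_isIso₁ _ hT).1 ?_
    have hZ : DerComp.IsDerComp O I Z := isDerComp_obj₃ I _ hT (hres L hL) hL
    have hbij : ∀ X, HKilled I X → Function.Bijective fun g : X ⟶ F.obj (R.obj L) => g ≫ a₂.counit.app L := by
      intro X hX
      have := isIso_derUnit hφ X hX
      have e : (fun g : X ⟶ F.obj (R.obj L) => g ≫ a₂.counit.app L) =
          (fun h => a₁.unit.app X ≫ h) ∘ (a₂.homEquiv _ L).symm ∘ (a₁.homEquiv X (R.obj L)).symm := by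
        funext g
        obtain ⟨h, rfl⟩ := (a₁.homEquiv X (R.obj L)).surjective g
        simp only [Function.comp_apply, Equiv.symm_apply_apply]
        rw [Adjunction.homEquiv_unit, Adjunction.homEquiv_counit, assoc]
      rw [e]
      exact ((asIso (a₁.unit.app X)).homFromEquiv.symm.bijective).comp
        ((Equiv.bijective _).comp (Equiv.bijective _))
    have hkill : ∀ X, HKilled I X → Subsingleton (X ⟶ Z) := fun X hX => by
      let D := DerivedCategory (ModSite.Mod O)
      refine subsingleton_of_forall_eq 0 fun f => ?_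
      let e : (X⟦(-1 : ℤ)⟧)⟦(1 : ℤ)⟧ ≅ X := (shiftFunctorCompIsoId D (-1 : ℤ) 1 (by omega)).app X
      obtain ⟨h₀, hh₀⟩ := (shiftFunctor D (1 : ℤ)).map_surjective (e.hom ≫ f ≫ g₃)
      have hz : h₀ = 0 := by
        refine (hbij _ (hX.shift (-1))).1 ?_
        show h₀ ≫ a₂.counit.app L = 0 ≫ a₂.counit.app L
        rw [zero_comp]
        apply (shiftFunctor D (1 : ℤ)).map_injective
        rw [Functor.map_comp, hh₀, Functor.map_zero, assoc, assoc]
        exact (congrArg (fun t => e.hom ≫ f ≫ t) (comp_distTriang_mor_zero₃₁ _ hT)).trans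
          ((congrArg (e.hom ≫ ·) comp_zero).trans comp_zero)
      have hfg : f ≫ g₃ = 0 := by
        rw [← cancel_epi e.hom, ← hh₀, hz, Functor.map_zero, comp_zero]
      obtain ⟨f', hf'⟩ := Triangle.coyoneda_exact₃ _ hT f hfg
      obtain ⟨g, hg⟩ := (hbij _ hX).2 f'
      rw [hf', ← hg]
      exact (assoc g _ g₂).trans ((congrArg (g ≫ ·) (comp_distTriang_mor_zero₁₂ _ hT)).trans comp_zero)
    let G : Set C := {W | ∃ (r : ℕ) (a : Fin r → O.obj.obj (op W)),
      (I.over W).IsGenBy fun i => DerComp.GSec.ofSect O W (a i)}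
    refine TelLocal.isZero_of_separating (ObjectProperty.ofObj fun W : G => ModSite.freeOn O (W : C))
      (ModTensor.isSeparating_freeOn G fun U => ?_) Z fun P hP n => ?_
    · obtain ⟨S, hS, hgen⟩ := hI U
      refine ⟨Σ V : C, {g : V ⟶ U // S g}, fun i => i.1, fun i => i.2.1, J.superset_covering ?_ hS,
        fun i => hgen i.2.1 i.2.2⟩
      exact fun V g hg => Sieve.ofArrows_mk _ _ (⟨V, g, hg⟩ : Σ V : C, {g : V ⟶ U // S g})
    · obtain ⟨⟨W, r, a, ha⟩⟩ := hP
      exact subsingleton_freeOn I W a ha Z hZ hkill n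
  constructor
  · intro K' L' _ hL'
    have := hε (F.obj L') ((S13489.result φ I I' hφ.ext L').1 hL')
    have hid : IsIso (F.map (a₂.unit.app L') ≫ a₂.counit.app (F.obj L')) := by
      rw [show F.map (a₂.unit.app L') ≫ a₂.counit.app (F.obj L') = 𝟙 (F.obj L') from a₂.left_triangle_components L']
      exact IsIso.id _
    have : IsIso (F.map (a₂.unit.app L')) := IsIso.of_isIso_comp_right _ (a₂.counit.app (F.obj L'))
    have := isIso_of_isIso_res φ _ this
    have e : (fun ψ : K' ⟶ L' => F.map ψ) =
        (a₂.homEquiv K' (F.obj L')).symm ∘ fun ψ => ψ ≫ a₂.unit.app L' := by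
      funext ψ
      refine (a₂.homEquiv K' (F.obj L')).injective ?_
      simp only [Function.comp_apply, Equiv.apply_symm_apply]
      exact (a₂.homEquiv_unit ..).trans (a₂.unit.naturality ψ).symm
    show Function.Bijective fun ψ : K' ⟶ L' => F.map ψ
    rw [e]
    exact (Equiv.bijective _).comp (asIso (a₂.unit.app L')).homToEquiv.bijective
  · intro E hE
    have := hε E hE
    exact ⟨R.obj E, (S13489.result φ I I' hφ.ext (R.obj E)).2 (hres E hE), ⟨asIso (a₂.counit.app E)⟩⟩

end Groth.Agent.DCEq
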