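import Groth.Agent.DCEq.Flat
import Groth.Agent.H9Misc.DerCompIdeal

/-! Extension by zero commutes with restriction of scalars, and preserves being killed by an ideal. -/

universe u

open CategoryTheory CategoryTheory.Limits Opposite
open Groth.Agent.ModTensor

namespace Groth.Agent.DCEq

open Groth.Agent.H9Misc.DerCompRestr (res)

variable {C : Type u} [SmallCategory C] {J : GrothendieckTopology C}

unseal extObj inclO in
/-- Additive maps out of sections of the presheaf extension by zero are determined on summands. -/
lemma extObj_addHom_ext {R : Cᵒᵖ ⥤ CommRingCat.{u}} {U : C} (G : PU R U) {V : Cᵒᵖ} {N : Type*} [AddCommGroup N]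
    {f g : (extObj G).obj V →+ N}
    (h : ∀ (Z : Over U) (α : V.unop ⟶ Z.left) (x : sec G Z), f (inclO G Z α x) = g (inclO G Z α x)) : f = g :=
  extSec_hom_ext G h

section Ext

variable (O : Sheaf J CommRingCat.{u}) (U : C)

/-- The unit of extension by zero, on presheaves. -/
noncomputable abbrev unitP (N : ModSite.Mod (O.over U)) :
    (fg (O.over U)).obj N ⟶ (resP O.obj U).obj ((fg O).obj ((ModSite.extZero O U).obj N)) :=
  (fg (O.over U)).map ((ModSite.extZeroAdj O U).unit.app N)

/-- The presheaf extension by zero maps to the sheaf one. -/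
noncomputable def toExt (N : ModSite.Mod (O.over U)) :
    extObj ((fg (O.over U)).obj N) ⟶ (fg O).obj ((ModSite.extZero O U).obj N) :=
  extDesc (unitP O U N)

lemma toExt_inclO (N : ModSite.Mod (O.over U)) (Z : Over U) (x : sec ((fg (O.over U)).obj N) Z) :
    (toExt O U N).app (op Z.left) (inclO _ Z (𝟙 Z.left) x) = appO (unitP O U N) Z x :=
  extDesc_inclO_id _ Z x

theorem isIso_toExt (N : ModSite.Mod (O.over U)) :
    IsIso (((shAdj O).homEquiv _ _).symm (toExt O U N)) := by
  refine (isIso_iff_coyoneda_map_bijective _).2 fun Y => ?_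
  let a := ModSite.extZeroAdj O U
  let b := extPAdj O.obj U
  have hfg : Function.Bijective fun g : N ⟶ (ModSite.restr O U).obj Y => (fg (O.over U)).map g :=
    ⟨(fg (O.over U)).map_injective, (fg (O.over U)).map_surjective⟩
  let e : ((sh O).obj (extObj ((fg (O.over U)).obj N)) ⟶ Y) ≃ (N ⟶ (ModSite.restr O U).obj Y) :=
    ((shAdj O).homEquiv _ Y).trans ((b.homEquiv _ _).trans (Equiv.ofBijective _ hfg).symm)
  have : (fun g : (ModSite.extZero O U).obj N ⟶ Y => ((shAdj O).homEquiv _ _).symm (toExt O U N) ≫ g) =
      e.symm ∘ a.homEquiv N Y := by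
    funext g
    refine e.injective ?_
    rw [Function.comp_apply, Equiv.apply_symm_apply]
    refine (Equiv.ofBijective _ hfg).injective ?_
    refine ((Equiv.ofBijective _ hfg).apply_symm_apply _).trans ?_
    refine (congrArg (b.homEquiv _ _) (((shAdj O).homEquiv_naturality_right _ g).trans
      (congrArg (· ≫ (fg O).map g) (((shAdj O).homEquiv _ _).apply_symm_apply (toExt O U N))))).trans ?_
    refine (b.homEquiv_naturality_right (toExt O U N) ((fg O).map g)).trans ?_
    show (extUnit _ ≫ (resP O.obj U).map (toExt O U N)) ≫ _ = (fg (O.over U)).map (a.homEquiv N Y g)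
    refine (congrArg (· ≫ _) (extDesc_unit (unitP O U N))).trans ?_
    rw [Adjunction.homEquiv_unit, Functor.map_comp]
    rfl
  show Function.Bijective fun g => ((shAdj O).homEquiv _ _).symm (toExt O U N) ≫ g
  rw [this]
  exact e.symm.bijective.comp (a.homEquiv N Y).bijective

lemma toExt_eq (N : ModSite.Mod (O.over U)) :
    (shAdj O).unit.app _ ≫ (fg O).map (((shAdj O).homEquiv _ _).symm (toExt O U N)) = toExt O U N :=
  ((shAdj O).homEquiv_unit ..).symm.trans (((shAdj O).homEquiv _ _).apply_symm_apply _)

theorem locBij_toExt (N : ModSite.Mod (O.over U)) :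
    Presheaf.IsLocallyInjective J ((PresheafOfModules.toPresheaf _).map (toExt O U N)) ∧
      Presheaf.IsLocallySurjective J ((PresheafOfModules.toPresheaf _).map (toExt O U N)) := by
  have := isIso_toExt O U N
  let q := (PresheafOfModules.toPresheaf _).map ((fg O).map (((shAdj O).homEquiv _ _).symm (toExt O U N)))
  have : IsIso q := inferInstance
  let p := (PresheafOfModules.toPresheaf _).map ((shAdj O).unit.app (extObj ((fg (O.over U)).obj N)))
  have : Presheaf.IsLocallyInjective J p := isLocallyInjective_unit _
  have : Presheaf.IsLocallySurjective J p := isLocallySurjective_unit _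
  rw [← toExt_eq, Functor.map_comp]
  exact ⟨inferInstanceAs (Presheaf.IsLocallyInjective J (p ≫ q)),
    inferInstanceAs (Presheaf.IsLocallySurjective J (p ≫ q))⟩

/-- Extension by zero preserves being killed by an ideal. -/
theorem killed_extZero (I : DerComp.IdealSh O) (N : ModSite.Mod (O.over U)) (hN : Killed (I.over U) N) :
    Killed I ((ModSite.extZero O U).obj N) := by
  intro V a ha x
  have := (locBij_toExt O U N).2
  let T := (PresheafOfModules.toPresheaf _).map (toExt O U N)
  refine eq_of_locally ((ModSite.extZero O U).obj N).isSheaf (H := (fg O).obj _)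
    (Presheaf.imageSieve_mem J T (U := op V) x) fun W g hg => ?_
  obtain ⟨s₀, hs⟩ := hg
  let s : (extObj ((fg (O.over U)).obj N)).obj (op W) := s₀
  rw [rs_smul, show rs ((fg O).obj ((ModSite.extZero O U).obj N)) g.op (0 : _) = 0 from map_zero _]
  have hs0 : (O.obj.map g.op).hom a • s = (0 : (extObj ((fg (O.over U)).obj N)).obj (op W)) := by
    refine DFunLike.congr_fun (extObj_addHom_ext ((fg (O.over U)).obj N)
      (N := (extObj ((fg (O.over U)).obj N)).obj (op W))
      (f := DistribMulAction.toAddMonoidHom _ ((O.obj.map g.op).hom a)) (g := 0) fun Z α y => ?_) s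
    show (O.obj.map g.op).hom a • inclO _ Z α y = 0
    let G := (fg (O.over U)).obj N
    let Z' := Over.mk (α ≫ Z.hom)
    let y' : sec G Z' := rsO G (Over.homMk α rfl : Z' ⟶ Z) y
    have e1 : inclO G (V := op W) Z α y = inclO G (V := op W) Z' (𝟙 W) y' :=
      ((inclO_rsO G (Over.homMk α rfl : Z' ⟶ Z) (𝟙 W) y).trans
        (congrArg (fun t => inclO G (V := op W) Z t y) (Category.id_comp α))).symm
    have e2 : (O.obj.map g.op).hom a • y' = 0 := hN Z' _ (I.map_mem g ha) y'
    refine (congrArg ((O.obj.map g.op).hom a • ·) e1).trans ((inclO_id_smul G Z' _ y').symm.trans ?_)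
    exact (congrArg (inclO G (V := op W) Z' (𝟙 W)) e2).trans (inclO_zero G Z' _)
  refine Eq.trans ?_ (map_zero ((toExt O U N).app (op W)).hom)
  rw [← hs0]
  have hs' : rs ((fg O).obj ((ModSite.extZero O U).obj N)) g.op x = (toExt O U N).app (op W) s := hs.symm
  rw [hs']
  exact (map_smul ((toExt O U N).app (op W)).hom _ s).symm

end Ext

variable {O O' : Sheaf J CommRingCat.{u}} (φ : O ⟶ O') (U : C)

/-- The map of rings over a slice. -/
noncomputable abbrev overφ : O.over U ⟶ O'.over U := (J.overPullback CommRingCat.{u} U).map φ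

variable (N : ModSite.Mod (O'.over U))

/-- The comparison of extensions by zero. -/
noncomputable def cmp :
    (ModSite.extZero O U).obj ((res (overφ φ U)).obj N) ⟶ (res φ).obj ((ModSite.extZero O' U).obj N) :=
  ((ModSite.extZeroAdj O U).homEquiv _ ((res φ).obj ((ModSite.extZero O' U).obj N))).symm
    ((res (overφ φ U)).map ((ModSite.extZeroAdj O' U).unit.app N))

variable {φ U N} in
lemma cmp_natural {N' : ModSite.Mod (O'.over U)} (f : N ⟶ N') :
    (ModSite.extZero O U).map ((res (overφ φ U)).map f) ≫ cmp φ U N' =
      cmp φ U N ≫ (res φ).map ((ModSite.extZero O' U).map f) := by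
  refine ((ModSite.extZeroAdj O U).homEquiv_naturality_left_symm _ _).symm.trans (Eq.trans ?_
    ((ModSite.extZeroAdj O U).homEquiv_naturality_right_symm _ _))
  refine congrArg ((ModSite.extZeroAdj O U).homEquiv _ _).symm ?_
  refine ((res (overφ φ U)).map_comp _ _).symm.trans (Eq.trans ?_
    ((res (overφ φ U)).map_comp ((ModSite.extZeroAdj O' U).unit.app N)
      ((ModSite.restr O' U).map ((ModSite.extZero O' U).map f))))
  exact congrArg (res (overφ φ U)).map ((ModSite.extZeroAdj O' U).unit.naturality f)

unseal extObj in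
/-- The two presheaf extensions by zero have the same sections. -/
noncomputable def secMap (V : Cᵒᵖ) :
    (extObj ((fg (O.over U)).obj ((res (overφ φ U)).obj N))).obj V →+
      (extObj ((fg (O'.over U)).obj N)).obj V :=
  AddMonoidHom.id _

unseal extObj inclO in
lemma secMap_inclO {V : Cᵒᵖ} (Z : Over U) (α : V.unop ⟶ Z.left)
    (x : sec ((fg (O.over U)).obj ((res (overφ φ U)).obj N)) Z) :
    secMap φ U N V (inclO _ Z α x) = inclO ((fg (O'.over U)).obj N) Z α x := rfl

unseal extObj in
lemma secMap_bijective (V : Cᵒᵖ) : Function.Bijective (secMap φ U N V) := Function.bijective_id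

/-- The comparison of the presheaf extensions by zero. -/
noncomputable def preCmp :
    (extObj ((fg (O.over U)).obj ((res (overφ φ U)).obj N))).presheaf ⟶
      (extObj ((fg (O'.over U)).obj N)).presheaf where
  app V := AddCommGrpCat.ofHom (secMap φ U N V)
  naturality {V W} g := by
    let G := (fg (O.over U)).obj ((res (overφ φ U)).obj N)
    let G' := (fg (O'.over U)).obj N
    refine AddCommGrpCat.hom_ext (AddMonoidHom.ext fun s => ?_)
    refine DFunLike.congr_fun (extObj_addHom_ext G (N := (extObj G').obj W)
      (f := (secMap φ U N W).comp ((extObj G).map g).hom.toAddMonoidHom)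
      (g := ((extObj G').map g).hom.toAddMonoidHom.comp (secMap φ U N V)) fun Z α y => ?_) s
    show secMap φ U N W (rs (extObj G) g (inclO G Z α y)) = rs (extObj G') g (secMap φ U N V (inclO G Z α y))
    rw [rs_inclO, secMap_inclO, secMap_inclO, rs_inclO]

instance : IsIso (preCmp φ U N) := by
  have : ∀ V, IsIso ((preCmp φ U N).app V) := fun V =>
    (ConcreteCategory.isIso_iff_bijective _).2 (secMap_bijective φ U N V)
  exact NatIso.isIso_of_isIso_app _

lemma toExt_cmp :
    (PresheafOfModules.toPresheaf _).map (toExt O U ((res (overφ φ U)).obj N) ≫ (fg O).map (cmp φ U N)) =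
      preCmp φ U N ≫ (PresheafOfModules.toPresheaf _).map (toExt O' U N) := by
  let G := (fg (O.over U)).obj ((res (overφ φ U)).obj N)
  ext V s
  refine DFunLike.congr_fun (extObj_addHom_ext G
    (N := ((fg O').obj ((ModSite.extZero O' U).obj N)).obj V)
    (f := ((toExt O U ((res (overφ φ U)).obj N) ≫ (fg O).map (cmp φ U N)).app V).hom.toAddMonoidHom)
    (g := ((toExt O' U N).app V).hom.toAddMonoidHom.comp (secMap φ U N V)) fun Z α y => ?_) s
  show ((fg O).map (cmp φ U N)).app V ((toExt O U ((res (overφ φ U)).obj N)).app V (inclO G Z α y)) =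
    (toExt O' U N).app V (secMap φ U N V (inclO G Z α y))
  rw [secMap_inclO, toExt, toExt, extDesc_inclO, extDesc_inclO, app_rs]
  refine congrArg (rs ((fg O').obj ((ModSite.extZero O' U).obj N)) α.op) ?_
  have h : (ModSite.extZeroAdj O U).unit.app ((res (overφ φ U)).obj N) ≫ (ModSite.restr O U).map (cmp φ U N) =
      (res (overφ φ U)).map ((ModSite.extZeroAdj O' U).unit.app N) :=
    ((ModSite.extZeroAdj O U).homEquiv_unit ..).symm.trans
      (((ModSite.extZeroAdj O U).homEquiv _ ((res φ).obj ((ModSite.extZero O' U).obj N))).apply_symm_apply _)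
  exact congrArg (fun t : (res (overφ φ U)).obj N ⟶ (ModSite.restr O U).obj ((res φ).obj ((ModSite.extZero O' U).obj N)) =>
    appO ((fg (O.over U)).map t) Z y) h

/-- Extension by zero commutes with restriction of scalars. -/
theorem isIso_cmp : IsIso (cmp φ U N) := by
  let T := (SheafOfModules.toSheaf (ModSite.ringSh O)).map (cmp φ U N)
  let p := (PresheafOfModules.toPresheaf _).map (toExt O U ((res (overφ φ U)).obj N))
  let q := (PresheafOfModules.toPresheaf _).map ((fg O).map (cmp φ U N))
  obtain ⟨h1, h2⟩ := locBij_toExt O U ((res (overφ φ U)).obj N)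
  obtain ⟨h3, h4⟩ := locBij_toExt O' U N
  have e : p ≫ q = preCmp φ U N ≫ (PresheafOfModules.toPresheaf _).map (toExt O' U N) :=
    ((PresheafOfModules.toPresheaf _).map_comp _ _).symm.trans (toExt_cmp φ U N)
  let m : (extObj ((fg (O.over U)).obj ((res (overφ φ U)).obj N))).presheaf ⟶
      ((fg O').obj ((ModSite.extZero O' U).obj N)).presheaf :=
    preCmp φ U N ≫ (PresheafOfModules.toPresheaf _).map (toExt O' U N)
  have hm₁ : Presheaf.IsLocallyInjective J m :=
    haveI : Presheaf.IsLocallyInjective J
      (show (extObj ((fg (O'.over U)).obj N)).presheaf ⟶ ((fg O').obj ((ModSite.extZero O' U).obj N)).presheaf from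
        (PresheafOfModules.toPresheaf _).map (toExt O' U N)) := h3
    inferInstanceAs (Presheaf.IsLocallyInjective J (preCmp φ U N ≫
      (show (extObj ((fg (O'.over U)).obj N)).presheaf ⟶ ((fg O').obj ((ModSite.extZero O' U).obj N)).presheaf from
        (PresheafOfModules.toPresheaf _).map (toExt O' U N))))
  have hm₂ : Presheaf.IsLocallySurjective J m :=
    haveI : Presheaf.IsLocallySurjective J
      (show (extObj ((fg (O'.over U)).obj N)).presheaf ⟶ ((fg O').obj ((ModSite.extZero O' U).obj N)).presheaf from
        (PresheafOfModules.toPresheaf _).map (toExt O' U N)) := h4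
    inferInstanceAs (Presheaf.IsLocallySurjective J (preCmp φ U N ≫
      (show (extObj ((fg (O'.over U)).obj N)).presheaf ⟶ ((fg O').obj ((ModSite.extZero O' U).obj N)).presheaf from
        (PresheafOfModules.toPresheaf _).map (toExt O' U N))))
  have : Presheaf.IsLocallyInjective J (p ≫ q) := by rw [e]; exact hm₁
  have : Presheaf.IsLocallySurjective J (p ≫ q) := by rw [e]; exact hm₂
  have hq₁ : Presheaf.IsLocallyInjective J q :=
    Presheaf.isLocallyInjective_of_isLocallyInjective_of_isLocallySurjective J p q
  have hq₂ : Presheaf.IsLocallySurjective J q := Presheaf.isLocallySurjective_of_isLocallySurjective J p q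
  have : Sheaf.IsLocallyInjective T := hq₁
  have : Sheaf.IsLocallySurjective T := hq₂
  have : IsIso T := (Sheaf.isLocallyBijective_iff_isIso _).1 ⟨inferInstance, inferInstance⟩
  exact isIso_of_reflects_iso (cmp φ U N) (SheafOfModules.toSheaf (ModSite.ringSh O))

end Groth.Agent.DCEq
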