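import Groth.Agent.DCEq.Slice

/-! Restrictions of free `O'`-modules have bijective telescopes on derived complete objects. -/

universe u

open CategoryTheory CategoryTheory.Category CategoryTheory.Limits Opposite
open Groth.Agent.H9Misc

attribute [local instance] HasDerivedCategory.standard

namespace Groth.Agent.DCEq

open Groth.Agent.H9Misc.DerCompTel (mulOn)
open Groth.Agent.H9Misc.DerCompRestr (res)

variable {C : Type u} [SmallCategory C] {J : GrothendieckTopology C} {O O' : Sheaf J CommRingCat.{u}}

/-- Restriction to a slice. -/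
theorem preservesFiniteLimits_restr (O : Sheaf J CommRingCat.{u}) (U : C) : PreservesFiniteLimits (ModSite.restr O U) := by
  have : PreservesLimitsOfSize.{0, 0} (ModSite.restr O U) :=
    (ModSite.extZeroAdj O U).rightAdjoint_preservesLimits
  exact ⟨fun _ => inferInstance⟩

/-- A section of `I` has bijective telescopes on morphisms into restrictions of derived complete objects. -/
theorem tb_slice (I : DerComp.IdealSh O) (L : DerivedCategory (ModSite.Mod O))
    (hL : DerComp.IsDerComp O I L) (U : C) (a : O.obj.obj (op U)) (ha : a ∈ I.ideal U)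
    [(ModSite.restr O U).Additive] [PreservesFiniteLimits (ModSite.restr O U)]
    [PreservesFiniteColimits (ModSite.restr O U)] (Y : DerivedCategory (ModSite.Mod (O.over U))) :
    TelBij.TB (TelLocal.sc (DerComp.GSec.ofSect O U a) Y ((ModSite.restr O U).mapDerivedCategory.obj L)) := by
  have := ModTensor.preservesFiniteColimits_extZero O U
  have := ModTensor.preservesFiniteLimits_extZero O U
  have : HasLimitsOfShape (Discrete ℕ) (DerivedCategory (ModSite.Mod (O.over U))) :=
    TriCat.hasProductsOfShape_derivedCategory fun M => by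
      obtain ⟨K, i, hK, hi, -, -⟩ := TriCat.exists_kInjective_resolution'.{u} M
      exact ⟨K, i, hK, hi⟩
  let s := DerComp.GSec.ofSect O U a
  refine TelLocal.tb_sc_of_separating s _
    (ObjectProperty.ofObj fun Y : (Set.univ : Set (Over U)) => ModSite.freeOn (O.over U) (Y : Over U))
    (ModTensor.isSeparating_freeOn Set.univ fun Z => ?_) (fun P hP => ?_) _
  · refine ⟨PUnit, fun _ => Z, fun _ => 𝟙 Z, ?_, fun _ => trivial⟩
    rw [show Sieve.ofArrows (fun _ : PUnit.{u+1} => Z) (fun _ => 𝟙 Z) = ⊤ from
      Sieve.id_mem_iff_eq_top.1 (Sieve.ofArrows_mk _ _ PUnit.unit)]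
    exact (J.over U).top_mem Z
  · obtain ⟨⟨Y, -⟩⟩ := hP
    show TelOrth.TBOn (ModSite.freeOn (O.over U) Y) (s • 𝟙 _) _
    rw [show s • 𝟙 (ModSite.freeOn (O.over U) Y) = DerComp.smulEnd s _ from comp_id _]
    refine (TelLocal.tbOn_map_iff (ModSite.extZeroAdj O U) _ _ L).1 ?_
    refine DerCompIdeal.tbOn_of_iso (DerCompIdeal.extFreeIso U Y).symm ?_
      ((DerCompTel.isDerComp_iff I L).1 hL Y.left _ (I.map_mem Y.hom ha))
    rw [Iso.symm_hom, Iso.inv_comp_eq, ← assoc, DerCompIdeal.extFreeIso_comm, assoc, Iso.hom_inv_id, comp_id]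

/-- Multiplication by a section of `I` has bijective telescopes on extensions by zero of any module. -/
theorem tbOn_extZero (I : DerComp.IdealSh O) (L : DerivedCategory (ModSite.Mod O))
    (hL : DerComp.IsDerComp O I L) (U : C) (a : O.obj.obj (op U)) (ha : a ∈ I.ideal U)
    (X : ModSite.Mod (O.over U)) :
    TelOrth.TBOn ((ModSite.extZero O U).obj X)
      ((ModSite.extZero O U).map (DerComp.smulEnd (DerComp.GSec.ofSect O U a) X)) L := by
  have := ModTensor.preservesFiniteColimits_extZero O U
  have := ModTensor.preservesFiniteLimits_extZero O U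
  have := SuppCore.preservesFiniteColimits_restr (O := O) U
  have := preservesFiniteLimits_restr O U
  have : (ModSite.restr O U).Additive := (ModSite.extZeroAdj O U).right_adjoint_additive
  let s := DerComp.GSec.ofSect O U a
  refine (TelLocal.tbOn_map_iff (ModSite.extZeroAdj O U) X (DerComp.smulEnd s X) L).2 ?_
  rw [show DerComp.smulEnd s X = s • 𝟙 _ from (comp_id _).symm]
  intro n
  rw [TelLocal.mu_smul_id]
  let S := (DerivedCategory.singleFunctor (ModSite.Mod (O.over U)) 0).obj X
  exact TelLocal.tb_sc_of_iso s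
    ((shiftFunctorCompIsoId (DerivedCategory (ModSite.Mod (O.over U))) (-n) n (by omega)).app S) (Iso.refl _)
    (TelLocal.tb_sc_shift s n (tb_slice I L hL U a ha _))

/-- Restrictions of free `O'`-modules. -/
theorem tbOn_res_free (φ : O ⟶ O') (I : DerComp.IdealSh O) (L : DerivedCategory (ModSite.Mod O))
    (hL : DerComp.IsDerComp O I L) (U : C) (a : O.obj.obj (op U)) (ha : a ∈ I.ideal U) :
    TelOrth.TBOn ((res φ).obj (ModSite.freeOn O' U)) ((res φ).map (mulOn U ((φ.hom.app (op U)).hom a))) L := by
  let N := ModSite.unit (O'.over U)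
  have := isIso_cmp φ U N
  let s := DerComp.GSec.ofSect O U a
  let s' := DerComp.GSec.ofSect O' U ((φ.hom.app (op U)).hom a)
  have hs : (res (overφ φ U)).map (DerComp.smulEnd s' N) = DerComp.smulEnd s ((res (overφ φ U)).obj N) := by
    refine SheafOfModules.hom_ext (PresheafOfModules.hom_ext fun Z => ModuleCat.hom_ext (LinearMap.ext fun x => ?_))
    let x' : O'.obj.obj (op Z.unop.left) := x
    show (O'.obj.map Z.unop.hom.op).hom ((φ.hom.app (op U)).hom a) * x' =
      (φ.hom.app (op Z.unop.left)).hom ((O.obj.map Z.unop.hom.op).hom a) * x'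
    rw [show (φ.hom.app (op Z.unop.left)).hom ((O.obj.map Z.unop.hom.op).hom a) =
      (O'.obj.map Z.unop.hom.op).hom ((φ.hom.app (op U)).hom a) from
      CategoryTheory.congr_fun (φ.hom.naturality Z.unop.hom.op) a]
  refine DerCompIdeal.tbOn_of_iso (asIso (cmp φ U N)) ?_ (tbOn_extZero I L hL U a ha ((res (overφ φ U)).obj N))
  show cmp φ U N ≫ (res φ).map ((ModSite.extZero O' U).map (DerComp.smulEnd s' N)) = _
  rw [← cmp_natural, hs]
  rfl

end Groth.Agent.DCEq
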